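import Mathlib.Algebra.MvPolynomial.PDeriv
import Mathlib.Algebra.MvPolynomial.Rename
import Mathlib.RingTheory.Ideal.Maps
import Mathlib.RingTheory.Ideal.Operations
import Mathlib.RingTheory.MvPolynomial.Ideal
import Mathlib.Tactic.LinearCombination

/-!
Quadratic polynomials in `z` with coefficients in `K[x, y]` and their discriminants at the origin.
-/

set_option autoImplicit false
universe u

namespace Groth.Agent.Lib.Prym5.Conic

open MvPolynomial

variable {K : Type u} [Field K]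

noncomputable abbrev quad (G₂ G₃ G₄ : MvPolynomial (Fin 2) K) : MvPolynomial (Fin 3) K :=
  rename (Fin.castSucc : Fin 2 → Fin 3) G₂ * X (2 : Fin 3) ^ 2
    + 2 * rename (Fin.castSucc : Fin 2 → Fin 3) G₃ * X (2 : Fin 3)
    + rename (Fin.castSucc : Fin 2 → Fin 3) G₄

noncomputable abbrev m2 : Ideal (MvPolynomial (Fin 2) K) := Ideal.span (Set.range X)
noncomputable abbrev m3 : Ideal (MvPolynomial (Fin 3) K) := Ideal.span (Set.range X)

noncomputable def subst0 : MvPolynomial (Fin 3) K →ₐ[K] MvPolynomial (Fin 2) K :=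
  aeval (Fin.lastCases 0 (fun i => X i) : Fin 3 → MvPolynomial (Fin 2) K)

lemma subst0_rename (G : MvPolynomial (Fin 2) K) :
    subst0 (rename (Fin.castSucc : Fin 2 → Fin 3) G) = G := by
  rw [subst0, aeval_rename]
  have : ((Fin.lastCases 0 (fun i => X i) : Fin 3 → MvPolynomial (Fin 2) K) ∘ Fin.castSucc) = X := by
    funext i; simp
  rw [this, aeval_X_left_apply]

lemma subst0_z : subst0 (X (2 : Fin 3) : MvPolynomial (Fin 3) K) = 0 := by
  rw [subst0, aeval_X]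
  exact Fin.lastCases_last

lemma map_subst0 : (m3 (K := K)).map subst0 ≤ m2 := by
  rw [m3, Ideal.map_span, Ideal.span_le]
  rintro _ ⟨_, ⟨i, rfl⟩, rfl⟩
  refine Fin.lastCases ?_ (fun j => ?_) i
  · rw [SetLike.mem_coe, subst0, aeval_X, Fin.lastCases_last]; exact zero_mem _
  · simp only [subst0, aeval_X, Fin.lastCases_castSucc]
    exact Ideal.subset_span ⟨j, rfl⟩

lemma map_rename : (m2 (K := K)).map (rename (Fin.castSucc : Fin 2 → Fin 3)) ≤ m3 := by
  rw [m2, Ideal.map_span, Ideal.span_le]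
  rintro _ ⟨_, ⟨i, rfl⟩, rfl⟩
  rw [rename_X]
  exact Ideal.subset_span ⟨_, rfl⟩

lemma rename_mem_pow {G : MvPolynomial (Fin 2) K} {n : ℕ} (h : G ∈ m2 ^ n) :
    rename (Fin.castSucc : Fin 2 → Fin 3) G ∈ m3 ^ n := by
  have := Ideal.mem_map_of_mem (rename (Fin.castSucc : Fin 2 → Fin 3) (R := K)) h
  rw [Ideal.map_pow] at this
  exact Ideal.pow_right_mono map_rename n this

lemma z_mem : (X (2 : Fin 3) : MvPolynomial (Fin 3) K) ∈ m3 := Ideal.subset_span ⟨_, rfl⟩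

lemma G4_mem_pow {G₂ G₃ G₄ : MvPolynomial (Fin 2) K} {n : ℕ} (h : quad G₂ G₃ G₄ ∈ m3 ^ n) :
    G₄ ∈ m2 ^ n := by
  have := Ideal.mem_map_of_mem subst0 h
  rw [Ideal.map_pow] at this
  have := Ideal.pow_right_mono map_subst0 n this
  simpa [quad, subst0_rename, subst0_z, map_ofNat] using this

lemma pderiv_sq {f : MvPolynomial (Fin 3) K} (i : Fin 3) (h : f ∈ m3 ^ 2) : pderiv i f ∈ m3 := by
  rw [pow_two] at h
  refine Submodule.mul_induction_on h (fun a ha b hb => ?_) (fun a b ha hb => ?_)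
  · rw [pderiv_mul]
    exact add_mem (Ideal.mul_mem_left _ _ hb) (Ideal.mul_mem_right _ _ ha)
  · rw [map_add]; exact add_mem ha hb

lemma G3_mem (h2 : (2 : K) ≠ 0) {G₂ G₃ G₄ : MvPolynomial (Fin 2) K} (h : quad G₂ G₃ G₄ ∈ m3 ^ 2) :
    G₃ ∈ m2 := by
  have := map_subst0 (Ideal.mem_map_of_mem subst0 (pderiv_sq (2 : Fin 3) h))
  have hr : ∀ G : MvPolynomial (Fin 2) K,
      pderiv (2 : Fin 3) (rename (Fin.castSucc : Fin 2 → Fin 3) G) = 0 := by
    intro G
    refine pderiv_eq_zero_of_notMem_vars fun hv => ?_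
    obtain ⟨j, -, hj⟩ := mem_vars_rename _ _ hv
    exact absurd hj (by revert j; decide)
  have h2' : pderiv (2 : Fin 3) (2 : MvPolynomial (Fin 3) K) = 0 := by
    rw [← map_ofNat C 2, pderiv_C]
  simp [quad, pderiv_mul, pderiv_pow, hr, h2', subst0_rename, subst0_z, map_ofNat] at this
  have hu : IsUnit (2 : MvPolynomial (Fin 2) K) := by
    rw [← map_ofNat C 2]; exact (isUnit_iff_ne_zero.mpr h2).map C
  exact (Ideal.unit_mul_mem_iff_mem _ hu).mp this

lemma disc_mem_sq (h2 : (2 : K) ≠ 0) {G₂ G₃ G₄ : MvPolynomial (Fin 2) K}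
    (h : quad G₂ G₃ G₄ ∈ m3 ^ 2) : G₃ ^ 2 - G₂ * G₄ ∈ m2 ^ 2 :=
  sub_mem (Ideal.pow_mem_pow (G3_mem h2 h) 2) (Ideal.mul_mem_left _ _ (G4_mem_pow h))

lemma m2_isMaximal : (m2 (K := K)).IsMaximal := by
  have : m2 (K := K) = RingHom.ker (aeval (0 : Fin 2 → K)).toRingHom := by
    refine le_antisymm ?_ fun p hp => ?_
    · rw [m2, Ideal.span_le]; rintro _ ⟨i, rfl⟩; simp
    · rw [m2, ← Set.image_univ, mem_ideal_span_X_image]
      intro m hm
      by_contra hc
      push Not at hc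
      have h0 : m = 0 := by ext i; exact hc i (Set.mem_univ _)
      subst h0
      have h0 : constantCoeff p = 0 := by simpa using hp
      exact (mem_support_iff.mp hm) h0
  rw [this]
  exact RingHom.ker_isMaximal_of_surjective _ fun c => ⟨C c, by simp⟩

lemma disc_mem_sq_iff (h2 : (2 : K) ≠ 0) {G₂ G₃ G₄ : MvPolynomial (Fin 2) K}
    (hQ : quad G₂ G₃ G₄ ∈ m3) (hD : G₃ ^ 2 - G₂ * G₄ ∈ m2) :
    G₃ ^ 2 - G₂ * G₄ ∈ m2 ^ 2 ↔ quad G₂ G₃ G₄ ∈ m3 ^ 2 ∨ (G₂ ∈ m2 ∧ G₃ ∈ m2 ∧ G₄ ∈ m2) := by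
  have hmax := m2_isMaximal (K := K)
  have h4 : G₄ ∈ m2 := by
    simpa using G4_mem_pow (n := 1) (G₂ := G₂) (G₃ := G₃) (by simpa using hQ)
  have h3 : G₃ ∈ m2 := hmax.isPrime.mem_of_pow_mem 2 (by
    simpa using add_mem hD (Ideal.mul_mem_left _ G₂ h4))
  constructor
  · intro h
    by_cases hG : G₂ ∈ m2
    · exact Or.inr ⟨hG, h3, h4⟩
    · left
      obtain ⟨b, i, hi, hbi⟩ := hmax.exists_inv hG
      have h24 : G₂ * G₄ ∈ m2 ^ 2 := by
        simpa using sub_mem (Ideal.pow_mem_pow h3 2) h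
      have hG4 : G₄ ∈ m2 ^ 2 := by
        have e : G₄ = b * (G₂ * G₄) + i * G₄ := by linear_combination (-G₄) * hbi
        rw [e]
        exact add_mem (Ideal.mul_mem_left _ _ h24) (pow_two (m2 (K := K)) ▸ Ideal.mul_mem_mul hi h4)
      refine add_mem (add_mem (Ideal.mul_mem_left _ _ (Ideal.pow_mem_pow z_mem 2)) ?_)
        (rename_mem_pow hG4)
      rw [mul_assoc]
      refine Ideal.mul_mem_left _ _ ?_
      rw [pow_two]
      exact Ideal.mul_mem_mul (by simpa using rename_mem_pow (n := 1) (by simpa using h3)) z_mem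
  · rintro (h | ⟨hG, -, -⟩)
    · exact disc_mem_sq h2 h
    · exact sub_mem (Ideal.pow_mem_pow h3 2) (pow_two (m2 (K := K)) ▸ Ideal.mul_mem_mul hG h4)

end Groth.Agent.Lib.Prym5.Conic
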